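import Mathlib.GroupTheory.PGroup
import Mathlib.GroupTheory.GroupAction.Quotient
import Mathlib.GroupTheory.QuotientGroup.Basic
import Mathlib.Tactic.NoncommRing

/-!
# The fixed point flag of a `p`-group acting on a finite ring by conjugation
-/

set_option autoImplicit false

namespace Cfsg.Agent.Lib.TwoSubnormal.Flag

variable {Γ : Type*} [Group Γ] {S : Type*} [Ring S] (ι : Γ →* S)

/-- Conjugation. -/
def cj (g : Γ) : S →+ S := (AddMonoidHom.mulRight (ι g⁻¹)).comp (AddMonoidHom.mulLeft (ι g))

theorem cj_apply (g : Γ) (X : S) : cj ι g X = ι g * X * ι g⁻¹ := rfl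

theorem cj_one (X : S) : cj ι 1 X = X := by simp [cj_apply]

theorem cj_mul (g k : Γ) (X : S) : cj ι (g * k) X = cj ι g (cj ι k X) := by
  simp only [cj_apply, mul_inv_rev, map_mul, mul_assoc]

/-- The flag. -/
def flag : ℕ → AddSubgroup S
  | 0 => ⊥
  | k + 1 =>
    { carrier := {X | ∀ g : Γ, cj ι g X - X ∈ flag k}
      zero_mem' := fun g => by simp
      add_mem' := fun {X Y} hX hY g => by
        rw [map_add, add_sub_add_comm]
        exact add_mem (hX g) (hY g)
      neg_mem' := fun {X} hX g => by
        rw [map_neg, neg_sub_neg, ← neg_sub]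
        exact neg_mem (hX g) }

theorem mem_flag_succ {k : ℕ} {X : S} :
    X ∈ flag ι (k + 1) ↔ ∀ g : Γ, cj ι g X - X ∈ flag ι k := Iff.rfl

theorem flag_le_succ (k : ℕ) : flag ι k ≤ flag ι (k + 1) := by
  induction k with
  | zero => exact bot_le
  | succ k ih => exact fun X hX g => ih (hX g)

theorem cj_mem (k : ℕ) (g : Γ) {X : S} (hX : X ∈ flag ι k) : cj ι g X ∈ flag ι k := by
  cases k with
  | zero =>
    rw [show X = 0 from hX, map_zero]
    exact zero_mem _
  | succ k =>
    have := add_mem (flag_le_succ ι k (hX g)) hX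
    rwa [sub_add_cancel] at this

/-- The flag reaches the top. -/
theorem exists_eq_top [Finite S] [Finite Γ] {p : ℕ} [Fact p.Prime] (hΓ : IsPGroup p Γ)
    (hp : (p : S) = 0) : ∃ K, flag ι K = ⊤ := by
  classical
  have hstep : ∀ k, flag ι k ≠ ⊤ → flag ι k < flag ι (k + 1) := by
    intro k hk
    refine lt_of_le_of_ne (flag_le_succ ι k) fun heq => hk ?_
    -- the action on the quotient has no other fixed point
    let act : Γ → S ⧸ flag ι k → S ⧸ flag ι k := fun g =>
      QuotientAddGroup.map _ _ (cj ι g) fun X hX => cj_mem ι k g hX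
    letI : MulAction Γ (S ⧸ flag ι k) :=
      { smul := act
        one_smul := fun x => by
          obtain ⟨X, rfl⟩ := QuotientAddGroup.mk_surjective x
          show QuotientAddGroup.mk (cj ι 1 X) = _
          rw [cj_one]
        mul_smul := fun g g' x => by
          obtain ⟨X, rfl⟩ := QuotientAddGroup.mk_surjective x
          show QuotientAddGroup.mk (cj ι (g * g') X) = QuotientAddGroup.mk (cj ι g (cj ι g' X))
          rw [cj_mul] }
    by_contra hne
    haveI : Nontrivial (S ⧸ flag ι k) := QuotientAddGroup.nontrivial_iff.mpr hne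
    have hdvd : p ∣ Nat.card (S ⧸ flag ι k) := by
      obtain ⟨x, hx⟩ := exists_ne (0 : S ⧸ flag ι k)
      have h0 : p • x = 0 := by
        obtain ⟨X, rfl⟩ := QuotientAddGroup.mk_surjective x
        rw [← QuotientAddGroup.mk_nsmul, nsmul_eq_mul, hp, zero_mul, QuotientAddGroup.mk_zero]
      rw [← addOrderOf_eq_prime h0 hx]
      exact addOrderOf_dvd_natCard x
    obtain ⟨x, hx, hxne⟩ := hΓ.exists_fixed_point_of_prime_dvd_card_of_fixed_point
      (S ⧸ flag ι k) hdvd (a := 0) (fun g => by
        show QuotientAddGroup.mk (cj ι g 0) = _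
        rw [map_zero, QuotientAddGroup.mk_zero])
    obtain ⟨X, rfl⟩ := QuotientAddGroup.mk_surjective x
    refine hxne ?_
    have hX : X ∈ flag ι (k + 1) := fun g => QuotientAddGroup.eq_iff_sub_mem.mp (hx g)
    rw [← heq] at hX
    exact ((QuotientAddGroup.eq_zero_iff X).mpr hX).symm
  by_contra hcon
  push Not at hcon
  have hmono : StrictMono (flag ι) := strictMono_nat_of_lt_succ fun k => hstep k (hcon k)
  haveI : Finite (AddSubgroup S) := Finite.of_injective _ (SetLike.coe_injective (A := AddSubgroup S))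
  exact not_injective_infinite_finite _ hmono.injective

end Cfsg.Agent.Lib.TwoSubnormal.Flag
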