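import Mathlib.Algebra.Polynomial.Coeff
import Mathlib.Algebra.Polynomial.Degree.Lemmas
import Mathlib.Data.Set.Card.Arithmetic
import Mathlib.GroupTheory.Index
import Mathlib.Tactic.Linarith
import Mathlib.Tactic.Ring

/-!
# Leading coefficients of a moving subgroup

For polynomials `u`, `v` of degree at most one with `u` left and `v` right invertible, the leading
coefficients of `u P v`, `P` with coefficients in `A`, form an additive subgroup at least as large
as `A`.
-/

set_option autoImplicit false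

namespace Cfsg.Agent.Lib.TwoSubnormal.Leading

open Polynomial

variable {S : Type*} [Ring S]

/-- The additive subgroup of polynomials with all coefficients in `A`. -/
def coeffIn (A : AddSubgroup S) : AddSubgroup S[X] where
  carrier := {P | ∀ i, P.coeff i ∈ A}
  add_mem' hP hQ i := by rw [coeff_add]; exact add_mem (hP i) (hQ i)
  zero_mem' i := by rw [coeff_zero]; exact A.zero_mem
  neg_mem' hP i := by rw [coeff_neg]; exact neg_mem (hP i)

theorem mem_coeffIn {A : AddSubgroup S} {P : S[X]} : P ∈ coeffIn A ↔ ∀ i, P.coeff i ∈ A := Iff.rfl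

theorem C_mem_coeffIn {A : AddSubgroup S} {a : S} (ha : a ∈ A) : C a ∈ coeffIn A := fun i => by
  rw [coeff_C]
  split_ifs
  · exact ha
  · exact A.zero_mem

theorem X_pow_mul_mem_coeffIn {A : AddSubgroup S} {P : S[X]} (hP : P ∈ coeffIn A) (k : ℕ) :
    X ^ k * P ∈ coeffIn A := fun i => by
  rw [coeff_X_pow_mul']
  split_ifs
  · exact hP _
  · exact A.zero_mem

/-- `P ↦ u P v`. -/
noncomputable def twist (u v : S[X]) : S[X] →+ S[X] :=
  (AddMonoidHom.mulRight v).comp (AddMonoidHom.mulLeft u)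

theorem twist_apply (u v P : S[X]) : twist u v P = u * P * v := rfl

theorem twist_X_pow (u v P : S[X]) (k : ℕ) : twist u v (X ^ k * P) = X ^ k * twist u v P := by
  rw [twist_apply, twist_apply, ← mul_assoc u, ← (commute_X_pow u k).eq]
  simp only [mul_assoc]

/-- The transformed polynomials. -/
noncomputable def image (u v : S[X]) (A : AddSubgroup S) : AddSubgroup S[X] :=
  (coeffIn A).map (twist u v)

theorem X_pow_mul_mem_image {u v : S[X]} {A : AddSubgroup S} {Q : S[X]} (hQ : Q ∈ image u v A)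
    (k : ℕ) : X ^ k * Q ∈ image u v A := by
  obtain ⟨P, hP, rfl⟩ := hQ
  exact ⟨X ^ k * P, X_pow_mul_mem_coeffIn hP k, twist_X_pow u v P k⟩

/-- The subgroup of leading coefficients. -/
noncomputable def lead (u v : S[X]) (A : AddSubgroup S) : AddSubgroup S where
  carrier := {c | ∃ Q ∈ image u v A, ∃ d, Q.natDegree ≤ d ∧ Q.coeff d = c}
  zero_mem' := ⟨0, zero_mem _, 0, by simp, by simp⟩
  neg_mem' := by
    rintro _ ⟨Q, hQ, d, hd, rfl⟩
    exact ⟨-Q, neg_mem hQ, d, by rwa [natDegree_neg], coeff_neg Q d⟩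
  add_mem' := by
    rintro _ _ ⟨Q, hQ, d, hd, rfl⟩ ⟨R, hR, e, he, rfl⟩
    refine ⟨X ^ e * Q + X ^ d * R, add_mem (X_pow_mul_mem_image hQ e) (X_pow_mul_mem_image hR d),
      d + e, ?_, ?_⟩
    · refine natDegree_add_le_of_degree_le ?_ ?_
      · refine natDegree_mul_le.trans ?_
        have := natDegree_X_pow_le (R := S) e
        omega
      · refine natDegree_mul_le.trans ?_
        have := natDegree_X_pow_le (R := S) d
        omega
    · rw [coeff_add, coeff_X_pow_mul, add_comm d e, coeff_X_pow_mul]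

theorem mem_lead {u v : S[X]} {A : AddSubgroup S} {c : S} :
    c ∈ lead u v A ↔ ∃ Q ∈ image u v A, ∃ d, Q.natDegree ≤ d ∧ Q.coeff d = c := Iff.rfl

theorem lead_mem {u v : S[X]} {A : AddSubgroup S} {Q : S[X]} (hQ : Q ∈ image u v A) {d : ℕ}
    (hd : Q.natDegree ≤ d) : Q.coeff d ∈ lead u v A := ⟨Q, hQ, d, hd, rfl⟩

theorem lead_le {u v : S[X]} {A D : AddSubgroup S}
    (h : ∀ P ∈ coeffIn A, ∀ i, (twist u v P).coeff i ∈ D) : lead u v A ≤ D := by
  rintro _ ⟨_, ⟨P, hP, rfl⟩, d, -, rfl⟩
  exact h P hP d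

theorem lead_mono {u v : S[X]} {A B : AddSubgroup S} (h : A ≤ B) :
    lead u v A ≤ lead u v B := by
  rintro _ ⟨_, ⟨P, hP, rfl⟩, d, hd, rfl⟩
  exact ⟨_, ⟨P, fun i => h (hP i), rfl⟩, d, hd, rfl⟩

variable [Finite S] {u v u' v' : S[X]} {A : AddSubgroup S}

/-- The leading coefficients are as many as `A`. -/
theorem card_le_card_lead (hu : u' * u = 1) (hv : v * v' = 1) (hdu : u.natDegree ≤ 1)
    (hdv : v.natDegree ≤ 1) : Nat.card A ≤ Nat.card (lead u v A) := by
  classical
  set L := lead u v A with hL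
  set l := Nat.card L with hl
  let H : ℕ → Set S[X] := fun d => {Q | Q ∈ image u v A ∧ ∀ i, d ≤ i → Q.coeff i = 0}
  have hH0 : H 0 ⊆ {0} := fun Q hQ => Polynomial.ext fun i => (hQ.2 i (Nat.zero_le i)).trans (coeff_zero i).symm
  have hfin : ∀ d, (H d).Finite ∧ (H d).ncard ≤ l ^ d := by
    intro d
    induction d with
    | zero =>
      exact ⟨(Set.finite_singleton 0).subset hH0,
        (Set.ncard_le_ncard hH0).trans (by simp)⟩
    | succ d ih =>
      haveI : Fintype L := Fintype.ofFinite L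
      have hsub : H (d + 1) ⊆ ⋃ c ∈ (Finset.univ : Finset L), {Q ∈ H (d + 1) | Q.coeff d = c} := by
        intro Q hQ
        have hdeg : Q.natDegree ≤ d := natDegree_le_iff_coeff_eq_zero.mpr fun i hi => hQ.2 i hi
        simp only [Finset.mem_univ, Set.iUnion_true, Set.mem_iUnion]
        exact ⟨⟨Q.coeff d, lead_mem hQ.1 hdeg⟩, hQ, rfl⟩
      have hfib : ∀ c : L, {Q ∈ H (d + 1) | Q.coeff d = c}.Finite ∧
          {Q ∈ H (d + 1) | Q.coeff d = c}.ncard ≤ l ^ d := by
        intro c
        rcases Set.eq_empty_or_nonempty {Q ∈ H (d + 1) | Q.coeff d = c} with e | ⟨Q₀, hQ₀, hc₀⟩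
        · rw [e]; simp
        have hmap : Set.MapsTo (fun Q => Q - Q₀) {Q ∈ H (d + 1) | Q.coeff d = c} (H d) := by
          rintro Q ⟨hQ, hc⟩
          refine ⟨sub_mem hQ.1 hQ₀.1, fun i hi => ?_⟩
          rw [coeff_sub]
          rcases eq_or_lt_of_le hi with rfl | hlt
          · rw [hc, hc₀, sub_self]
          · rw [hQ.2 i hlt, hQ₀.2 i hlt, sub_self]
        have hinj : Set.InjOn (fun Q => Q - Q₀) {Q ∈ H (d + 1) | Q.coeff d = c} :=
          fun _ _ _ _ h => sub_left_injective h
        exact ⟨Set.Finite.of_injOn hmap hinj ih.1,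
          (Set.ncard_le_ncard_of_injOn _ hmap hinj ih.1).trans ih.2⟩
      have hbig := Set.Finite.biUnion (Finset.finite_toSet Finset.univ) fun c _ => (hfib c).1
      refine ⟨hbig.subset (by simpa using hsub), ?_⟩
      refine (Set.ncard_le_ncard hsub (by simpa using hbig)).trans ?_
      refine (Finset.set_ncard_biUnion_le _ _).trans ?_
      refine (Finset.sum_le_card_nsmul _ _ (l ^ d) fun c _ => (hfib c).2).trans (le_of_eq ?_)
      rw [Finset.card_univ, ← Nat.card_eq_fintype_card, smul_eq_mul, pow_succ', hl]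
  have hbound : ∀ m, Nat.card A ^ m ≤ l ^ (m + 2) := by
    intro m
    let f : (Fin m → A) → S[X] := fun a => twist u v (∑ i : Fin m, C (a i : S) * X ^ (i : ℕ))
    have hcoeff : ∀ (a : Fin m → A) (i : Fin m),
        (∑ j : Fin m, C (a j : S) * X ^ (j : ℕ)).coeff (i : ℕ) = (a i : S) := by
      intro a i
      rw [finsetSum_coeff, Finset.sum_eq_single i]
      · rw [coeff_C_mul_X_pow, if_pos rfl]
      · intro j _ hj
        rw [coeff_C_mul_X_pow, if_neg fun h => hj (Fin.ext h.symm)]
      · simp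
    have hcoeff' : ∀ (a : Fin m → A) (i : ℕ),
        (∑ j : Fin m, C (a j : S) * X ^ (j : ℕ)).coeff i ∈ A ∧
          (m ≤ i → (∑ j : Fin m, C (a j : S) * X ^ (j : ℕ)).coeff i = 0) := by
      intro a i
      by_cases hi : i < m
      · exact ⟨by rw [show i = ((⟨i, hi⟩ : Fin m) : ℕ) from rfl, hcoeff]; exact (a _).2,
          fun h => absurd h (not_le.mpr hi)⟩
      · have h0 : (∑ j : Fin m, C (a j : S) * X ^ (j : ℕ)).coeff i = 0 := by
          rw [finsetSum_coeff]
          refine Finset.sum_eq_zero fun j _ => ?_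
          rw [coeff_C_mul_X_pow, if_neg]
          have := j.2
          omega
        exact ⟨by rw [h0]; exact A.zero_mem, fun _ => h0⟩
    have hmem : ∀ a, f a ∈ H (m + 2) := by
      intro a
      refine ⟨⟨_, fun i => (hcoeff' a i).1, rfl⟩, fun i hi => ?_⟩
      rcases Nat.eq_zero_or_pos m with h0 | hpos
      · subst h0
        simp [f, twist_apply]
      refine coeff_eq_zero_of_natDegree_lt ?_
      refine lt_of_lt_of_le ?_ hi
      have hdeg : (∑ j : Fin m, C (a j : S) * X ^ (j : ℕ)).natDegree ≤ m - 1 :=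
        natDegree_le_iff_coeff_eq_zero.mpr fun j hj => (hcoeff' a j).2 (by omega)
      refine lt_of_le_of_lt (natDegree_mul_le.trans (Nat.add_le_add_right natDegree_mul_le _)) ?_
      omega
    have hinj : Function.Injective f := by
      intro a a' h
      have h2 : ∀ P : S[X], u' * twist u v P * v' = P := fun P => by
        rw [twist_apply, show u' * (u * P * v) * v' = (u' * u) * P * (v * v') by
          simp only [mul_assoc], hu, hv, one_mul, mul_one]
      have h3 := congrArg (fun P => u' * P * v') h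
      simp only [f, h2] at h3
      funext i
      refine Subtype.ext ?_
      rw [← hcoeff a i, h3, hcoeff a' i]
    have := Set.ncard_le_ncard_of_injOn (s := (Set.univ : Set (Fin m → A))) f (fun a _ => hmem a)
      hinj.injOn (hfin (m + 2)).1
    rw [Set.ncard_univ, Nat.card_fun, Nat.card_fin] at this
    exact this.trans (hfin (m + 2)).2
  by_contra hlt
  push Not at hlt
  have hl1 : 0 < l := Nat.card_pos
  have h1 := hbound (l ^ 3)
  have h2 : (l + 1) ^ (l ^ 3) ≤ Nat.card A ^ (l ^ 3) := Nat.pow_le_pow_left hlt _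
  have h3 : ∀ n, l ^ (n + 1) + (n + 1) * l ^ n ≤ (l + 1) ^ (n + 1) := by
    intro n
    induction n with
    | zero => simp
    | succ n ih =>
      calc l ^ (n + 1 + 1) + (n + 1 + 1) * l ^ (n + 1)
          ≤ (l + 1) * (l ^ (n + 1) + (n + 1) * l ^ n) := by
            have e : (l + 1) * (l ^ (n + 1) + (n + 1) * l ^ n) =
                l ^ (n + 1 + 1) + (n + 1 + 1) * l ^ (n + 1) + (n + 1) * l ^ n := by ring
            omega
        _ ≤ (l + 1) * (l + 1) ^ (n + 1) := Nat.mul_le_mul_left _ ih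
        _ = (l + 1) ^ (n + 1 + 1) := (pow_succ' _ _).symm
  obtain ⟨n, hn⟩ : ∃ n, l ^ 3 = n + 1 := ⟨l ^ 3 - 1, by have := Nat.pow_pos (n := 3) hl1; omega⟩
  have h4 := h3 n
  rw [← hn] at h4
  have h5 : l ^ (l ^ 3 + 2) = l ^ 3 * l ^ n := by
    rw [← pow_add]
    congr 1
    omega
  have h6 : 0 < l ^ (l ^ 3) := Nat.pow_pos hl1
  rw [← h5] at h4
  omega

end Cfsg.Agent.Lib.TwoSubnormal.Leading
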