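import Cfsg.Agent.Lib.TwoSubnormal.Step
import Mathlib.GroupTheory.Nilpotent

/-!
# Quadratic subgroups normal in their normal closures
-/

set_option autoImplicit false

namespace Cfsg.Agent.Lib.TwoSubnormal.Main

open Quad Flag
open Moving (ann)
open Step (conjS mem_conjS conjS_mul quad_conjS)

variable {Γ : Type*} [Group Γ] {S : Type*} [Ring S] {ι : Γ →* S}

/-- The closure of the conjugates of `A` normalising `A`. -/
def clos (A : Subgroup Γ) : Subgroup Γ :=
  ⨆ g ∈ {g : Γ | conjS g A ≤ Subgroup.normalizer (A : Set Γ)}, conjS g A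

theorem self_le_clos (A : Subgroup Γ) : A ≤ clos A := by
  have h1 : conjS 1 A = A := by
    ext x
    simp [mem_conjS]
  refine le_of_eq_of_le h1.symm (le_biSup (fun g => conjS g A) (i := (1 : Γ)) ?_)
  show conjS 1 A ≤ _
  rw [h1]
  exact Subgroup.le_normalizer

theorem clos_le (A : Subgroup Γ) : clos A ≤ Subgroup.normalizer (A : Set Γ) :=
  iSup₂_le fun _ hg => hg

theorem conjS_le_normalizer_or_exists [Finite Γ] {p : ℕ} [Fact p.Prime] (hΓ : IsPGroup p Γ)
    (A : Subgroup Γ) (h : ∃ g, ¬ conjS g A ≤ Subgroup.normalizer (A : Set Γ)) :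
    ∃ g b, b ∈ conjS g A ∧ b ∉ Subgroup.normalizer (A : Set Γ) ∧
      b ∈ Subgroup.normalizer (clos A : Set Γ) := by
  haveI : Group.IsNilpotent Γ := hΓ.isNilpotent
  set R := clos A
  set N₁ := Subgroup.normalizer (R : Set Γ)
  obtain ⟨g₀, hg₀⟩ := h
  have hN₁ : N₁ ≠ ⊤ := by
    intro htop
    refine hg₀ ?_
    refine le_trans ?_ (clos_le A)
    rintro _ ⟨a, ha, rfl⟩
    exact (Subgroup.mem_normalizer_iff.mp (htop ▸ Subgroup.mem_top g₀ : g₀ ∈ N₁) a).mp
      (self_le_clos A ha)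
  have hlt : N₁ < Subgroup.normalizer (N₁ : Set Γ) :=
    Group.normalizerCondition_of_isNilpotent N₁ hN₁.lt_top
  obtain ⟨g, hg, hg'⟩ := SetLike.exists_of_lt hlt
  have hgR : conjS g R ≤ N₁ := by
    rintro _ ⟨r, hr, rfl⟩
    exact (Subgroup.mem_normalizer_iff.mp hg r).mp (Subgroup.le_normalizer hr)
  by_contra hcon
  push Not at hcon
  have hle : conjS g R ≤ R := by
    rw [conjS, Subgroup.map_le_iff_le_comap]
    refine iSup₂_le fun k hk => ?_
    rw [← Subgroup.map_le_iff_le_comap]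
    show conjS g (conjS k A) ≤ R
    rw [conjS_mul]
    refine le_biSup (fun g => conjS g A) (i := g * k) ?_
    intro x hx
    by_contra hxn
    refine hcon _ x hx hxn (hgR ?_)
    rw [← conjS_mul] at hx
    exact Subgroup.map_mono (le_biSup (fun g => conjS g A) hk) hx
  refine hg' ?_
  have heq : conjS g R = R := Subgroup.eq_of_le_of_card_ge hle
    (Nat.card_congr (R.equivMapOfInjective _ (MulAut.conj g).injective).toEquiv).le
  rw [Subgroup.mem_normalizer_iff]
  intro x
  constructor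
  · exact fun hx => hle ⟨x, hx, rfl⟩
  · intro hx
    rw [← heq] at hx
    obtain ⟨r, hr, e⟩ := hx
    rwa [(MulAut.conj g).injective e] at hr

/-- A quadratic subgroup of at least the same size, with at least the same annihilator, normal in
its normal closure. -/
theorem exists_normal_in_closure [Finite Γ] [Finite S] {p : ℕ} [Fact p.Prime] (hp2 : p ≠ 2)
    (hΓ : IsPGroup p Γ) (hp : (p : S) = 0) (hι : Function.Injective ι) {A₀ : Subgroup Γ}
    (hA₀ : Quad.Quad ι A₀) :
    ∃ (A : Subgroup Γ) (hA : Quad.Quad ι A), Nat.card A₀ ≤ Nat.card A ∧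
      Nat.card (ann (logA ι hA₀)) ≤ Nat.card (ann (logA ι hA)) ∧
      ∀ g, conjS g A ≤ Subgroup.normalizer (A : Set Γ) := by
  classical
  obtain ⟨K, hK⟩ := exists_eq_top ι hΓ hp
  obtain ⟨h, hh⟩ : ∃ h : ℕ, 2 * h = p + 1 := by
    obtain ⟨k, hk⟩ := (Fact.out : p.Prime).odd_of_ne_two hp2
    exact ⟨k + 1, by omega⟩
  have h2 : (2 * h : S) = 1 := by
    have : ((2 * h : ℕ) : S) = ((p + 1 : ℕ) : S) := by rw [hh]
    simpa [hp] using this
  let T : Set {A : Subgroup Γ // Quad.Quad ι A} := {A | Nat.card A₀ ≤ Nat.card A.1 ∧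
    Nat.card (ann (logA ι hA₀)) ≤ Nat.card (ann (logA ι A.2))}
  haveI : Finite (Subgroup Γ) :=
    Finite.of_injective _ (SetLike.coe_injective (A := Subgroup Γ))
  obtain ⟨⟨A, hA⟩, ⟨hc, hc'⟩, hmax⟩ := T.toFinite.exists_maximalFor
    (fun A => Step.potential ι K A.2) T ⟨⟨A₀, hA₀⟩, le_rfl, le_rfl⟩
  refine ⟨A, hA, hc, hc', ?_⟩
  by_contra hcon
  push Not at hcon
  obtain ⟨g, b, hb, hbA, hbR⟩ := conjS_le_normalizer_or_exists hΓ A hcon
  have hb2 : (ι b - 1) * (ι b - 1) = 0 := quad_conjS hA g b hb b hb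
  have hmove : ∃ a ∈ A, b * a * b⁻¹ ∉ A := by
    by_contra hall
    push Not at hall
    refine hbA ?_
    have hle : conjS b A ≤ A := by
      rintro _ ⟨a, ha, rfl⟩; exact hall a ha
    have heq : conjS b A = A := Subgroup.eq_of_le_of_card_ge hle
      (Nat.card_congr (A.equivMapOfInjective _ (MulAut.conj b).injective).toEquiv).le
    rw [Subgroup.mem_normalizer_iff]
    intro x
    refine ⟨fun hx => hall x hx, fun hx => ?_⟩
    rw [← heq] at hx
    obtain ⟨a, ha, e⟩ := hx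
    rwa [(MulAut.conj b).injective e] at ha
  obtain ⟨A', hA', h1, h1', hlt⟩ := Step.exists_better hι h2 hK hA hb2 (clos A) (self_le_clos A)
    hbR (clos_le A) hmove
  exact absurd (hmax (j := ⟨A', hA'⟩) ⟨hc.trans h1, hc'.trans h1'⟩ hlt.le) (not_le.mpr hlt)

end Cfsg.Agent.Lib.TwoSubnormal.Main
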