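import Cfsg.Agent.Lib.TwoSubnormal.Leading
import Mathlib.Tactic.NoncommRing
import Mathlib.Tactic.Abel

/-!
# Conjugation by `1 + tN` with `N² = 0`
-/

set_option autoImplicit false

namespace Cfsg.Agent.Lib.TwoSubnormal.Moving

open Polynomial

variable {S : Type*} [Ring S]

/-- `1 + N t`. -/
noncomputable def up (N : S) : S[X] := 1 + C N * X

/-- `1 - N t`. -/
noncomputable def down (N : S) : S[X] := 1 - C N * X

/-- Right annihilator. -/
def ann (L : AddSubgroup S) : AddSubgroup S where
  carrier := {T | ∀ X ∈ L, X * T = 0}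
  zero_mem' := fun X _ => mul_zero X
  add_mem' := fun {T T'} h h' X hX => by rw [mul_add, h X hX, h' X hX, add_zero]
  neg_mem' := fun {T} h X hX => by rw [mul_neg, h X hX, neg_zero]

variable {N : S}

theorem sq_zero (hN : N * N = 0) : C N * X * (C N * X) = (0 : S[X]) := by
  rw [mul_assoc, ← mul_assoc X, X_mul_C, mul_assoc, ← mul_assoc, ← C_mul, hN, C_0, zero_mul]

theorem up_mul_down (hN : N * N = 0) : up N * down N = 1 := by
  rw [up, down, mul_sub, mul_one, add_mul, one_mul, sq_zero hN]
  abel

theorem down_mul_up (hN : N * N = 0) : down N * up N = 1 := by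
  rw [up, down, mul_add, mul_one, sub_mul, one_mul, sq_zero hN]
  abel

theorem natDegree_up : (up N).natDegree ≤ 1 := by
  refine (natDegree_add_le _ _).trans ?_
  rw [natDegree_one]
  exact max_le (Nat.zero_le _) (natDegree_mul_le.trans (by
    rw [natDegree_C, zero_add]; exact natDegree_X_le))

theorem natDegree_down : (down N).natDegree ≤ 1 := by
  refine (natDegree_sub_le _ _).trans ?_
  rw [natDegree_one]
  exact max_le (Nat.zero_le _) (natDegree_mul_le.trans (by
    rw [natDegree_C, zero_add]; exact natDegree_X_le))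

theorem twist_eq (P : S[X]) : Leading.twist (up N) (down N) P =
    P + X * (C N * P - P * C N) - X * (X * (C N * P * C N)) := by
  have e1 : C N * X * P = X * (C N * P) := by rw [← X_mul_C, mul_assoc]
  have e2 : P * (C N * X) = X * (P * C N) := by rw [← mul_assoc, X_mul]
  have e3 : C N * X * P * (C N * X) = X * (X * (C N * P * C N)) := by
    rw [e1, mul_assoc, mul_assoc (C N) P, e2, ← mul_assoc (C N) X, ← X_mul_C, mul_assoc, mul_assoc]
  rw [Leading.twist_apply, up, down]
  calc (1 + C N * X) * P * (1 - C N * X)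
      = P + (C N * X * P - P * (C N * X)) - C N * X * P * (C N * X) := by
        simp only [add_mul, mul_sub, one_mul, mul_one]; abel
    _ = _ := by rw [e1, e2, ← mul_sub, ← e1, e3]

theorem twist_C (x : S) : Leading.twist (up N) (down N) (C x) =
    C x + X * C (N * x - x * N) - X * (X * C (N * x * N)) := by
  rw [twist_eq, C_sub, C_mul, C_mul, C_mul, C_mul]

/-- The coefficients stay in `T`. -/
theorem lead_le {A T : AddSubgroup S} (h0 : ∀ x ∈ A, x ∈ T) (h1 : ∀ x ∈ A, N * x - x * N ∈ T)
    (h2 : ∀ x ∈ A, N * x * N ∈ T) : Leading.lead (up N) (down N) A ≤ T := by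
  refine Leading.lead_le fun P hP i => ?_
  have e1 : ∀ j, (C N * P - P * C N).coeff j ∈ T := fun j => by
    rw [coeff_sub, coeff_C_mul, coeff_mul_C]; exact h1 _ (hP j)
  have e2 : ∀ j, (C N * P * C N).coeff j ∈ T := fun j => by
    rw [coeff_mul_C, coeff_C_mul]; exact h2 _ (hP j)
  have eX : ∀ R : S[X], (∀ j, R.coeff j ∈ T) → ∀ j, (X * R).coeff j ∈ T := by
    intro R hR j
    cases j with
    | zero => rw [coeff_X_mul_zero]; exact T.zero_mem
    | succ j => rw [coeff_X_mul]; exact hR j
  rw [twist_eq, coeff_sub, coeff_add]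
  exact sub_mem (add_mem (h0 _ (hP i)) (eX _ e1 i)) (eX _ (eX _ e2) i)

theorem lead_mul {A : AddSubgroup S} (hN : N * N = 0) (hA : ∀ x ∈ A, ∀ y ∈ A, x * y = 0)
    {c : S} (hc : c ∈ Leading.lead (up N) (down N) A) {c' : S}
    (hc' : c' ∈ Leading.lead (up N) (down N) A) : c * c' = 0 := by
  obtain ⟨_, ⟨P, hP, rfl⟩, d, hd, rfl⟩ := hc
  obtain ⟨_, ⟨P', hP', rfl⟩, e, he, rfl⟩ := hc'
  rw [← coeff_mul_add_eq_of_natDegree_le hd he]
  have : P * P' = 0 := by
    ext n
    rw [coeff_mul, coeff_zero]
    exact Finset.sum_eq_zero fun x _ => hA _ (hP x.1) _ (hP' x.2)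
  rw [Leading.twist_apply, Leading.twist_apply,
    show up N * P * down N * (up N * P' * down N) =
      up N * (P * (down N * up N) * P') * down N by simp only [mul_assoc],
    down_mul_up hN, mul_one, this, mul_zero, zero_mul, coeff_zero]

theorem card_le_lead [Finite S] (hN : N * N = 0) (A : AddSubgroup S) :
    Nat.card A ≤ Nat.card (Leading.lead (up N) (down N) A) :=
  Leading.card_le_card_lead (down_mul_up hN) (down_mul_up hN) natDegree_up natDegree_down

theorem card_ann_le [Finite S] (hN : N * N = 0) (A : AddSubgroup S) :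
    Nat.card (ann A) ≤ Nat.card (ann (Leading.lead (up N) (down N) A)) := by
  refine (Leading.card_le_card_lead (u := up N) (v := 1) (v' := 1) (down_mul_up hN) (mul_one 1)
    natDegree_up (by simp) (A := ann A)).trans (Nat.card_mono (Set.toFinite _) ?_)
  intro T hT c hc
  obtain ⟨_, ⟨P, hP, rfl⟩, d, hd, rfl⟩ := hc
  obtain ⟨_, ⟨P', hP', rfl⟩, e, he, rfl⟩ := hT
  rw [← coeff_mul_add_eq_of_natDegree_le hd he]
  have : P * P' = 0 := by
    ext n
    rw [coeff_mul, coeff_zero]
    exact Finset.sum_eq_zero fun x _ => hP' x.2 _ (hP x.1)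
  rw [Leading.twist_apply, Leading.twist_apply, mul_one,
    show up N * P * down N * (up N * P') = up N * (P * (down N * up N) * P') by
      simp only [mul_assoc],
    down_mul_up hN, mul_one, this, mul_zero, coeff_zero]

/-- An element of a stable part is a coefficient. -/
theorem C_mem_image {A : AddSubgroup S} (hN : N * N = 0) {y : S} (h0 : y ∈ A)
    (h1 : N * y - y * N ∈ A) (h2 : N * y * N ∈ A) :
    C y ∈ Leading.image (up N) (down N) A := by
  have hneg : Leading.twist (up (-N)) (down (-N)) (C y) = down N * C y * up N := by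
    rw [Leading.twist_apply, up, down, up, down, C_neg, neg_mul, ← sub_eq_add_neg, sub_neg_eq_add]
  refine ⟨down N * C y * up N, fun i => ?_, ?_⟩
  · rw [← hneg, twist_C, neg_mul, mul_neg, sub_neg_eq_add, mul_neg, neg_mul (N * y), neg_neg]
    have eX : ∀ (z : S), z ∈ A → ∀ n, (X * C z).coeff n ∈ A := by
      intro z hz n
      cases n with
      | zero => rw [coeff_X_mul_zero]; exact zero_mem _
      | succ n => rw [coeff_X_mul]; exact Leading.C_mem_coeffIn hz n
    rw [coeff_sub, coeff_add]
    refine sub_mem (add_mem (Leading.C_mem_coeffIn h0 i) (eX _ ?_ i)) ?_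
    · rw [show -(N * y) + y * N = -(N * y - y * N) by abel]
      exact neg_mem h1
    · cases i with
      | zero => rw [coeff_X_mul_zero]; exact zero_mem _
      | succ i => rw [coeff_X_mul]; exact eX _ h2 i
  · rw [Leading.twist_apply, show up N * (down N * C y * up N) * down N =
      (up N * down N) * C y * (up N * down N) by simp only [mul_assoc], up_mul_down hN, one_mul,
      mul_one]

theorem self_mem_lead {A : AddSubgroup S} (hN : N * N = 0) {y : S} (h0 : y ∈ A)
    (h1 : N * y - y * N ∈ A) (h2 : N * y * N ∈ A) :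
    y ∈ Leading.lead (up N) (down N) A :=
  ⟨C y, C_mem_image hN h0 h1 h2, 0, by rw [natDegree_C], coeff_C_zero⟩

/-- The top coefficient. -/
theorem sq_mem_lead {A : AddSubgroup S} {x : S} (hx : x ∈ A) :
    N * x * N ∈ Leading.lead (up N) (down N) A := by
  refine ⟨-Leading.twist (up N) (down N) (C x),
    neg_mem ⟨C x, Leading.C_mem_coeffIn hx, rfl⟩, 2, ?_, ?_⟩
  · have h1 : (X : S[X]).natDegree ≤ 1 := natDegree_X_le
    have hX : ∀ (R : S[X]) (n : ℕ), R.natDegree ≤ n → (X * R).natDegree ≤ n + 1 := fun R n h =>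
      natDegree_mul_le.trans (by omega)
    rw [natDegree_neg, twist_C]
    refine (natDegree_sub_le _ _).trans (max_le ((natDegree_add_le _ _).trans (max_le ?_ ?_)) ?_)
    · rw [natDegree_C]; exact Nat.zero_le _
    · exact (hX _ 0 (natDegree_C _).le).trans (by omega)
    · exact hX _ 1 (hX _ 0 (natDegree_C _).le)
  · rw [twist_C, coeff_neg, coeff_sub, coeff_add, coeff_X_mul, coeff_X_mul, coeff_X_mul,
      coeff_C_zero, coeff_C_of_ne_zero (by norm_num), coeff_C_of_ne_zero (by norm_num), add_zero,
      zero_sub, neg_neg]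

/-- The middle coefficient, when the top one is stable. -/
theorem mid_mem_lead {A : AddSubgroup S} {x : S} (hx : x ∈ A)
    (hz : C (N * x * N) ∈ Leading.image (up N) (down N) A) :
    N * x - x * N ∈ Leading.lead (up N) (down N) A := by
  have hQ : C x + X * C (N * x - x * N) ∈ Leading.image (up N) (down N) A := by
    have hP : Leading.twist (up N) (down N) (C x) ∈ Leading.image (up N) (down N) A :=
      ⟨C x, Leading.C_mem_coeffIn hx, rfl⟩
    have := add_mem hP (Leading.X_pow_mul_mem_image hz 2)
    rwa [twist_C, pow_two, mul_assoc X X (C _), sub_add_cancel] at this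
  refine ⟨_, hQ, 1, ?_, ?_⟩
  · refine (natDegree_add_le _ _).trans ?_
    rw [natDegree_C]
    refine max_le (Nat.zero_le _) (natDegree_mul_le.trans ?_)
    rw [natDegree_C, add_zero]
    exact natDegree_X_le
  · rw [coeff_add, coeff_C_of_ne_zero one_ne_zero, zero_add, coeff_X_mul, coeff_C_zero]

end Cfsg.Agent.Lib.TwoSubnormal.Moving
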