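import Mathlib.Algebra.Ring.Commute
import Mathlib.Data.ZMod.Basic
import Mathlib.GroupTheory.PGroup
import Mathlib.Tactic.NoncommRing
import Mathlib.Tactic.Abel

/-!
# Quadratic subgroups of the units of a ring

A quadratic subgroup is the image of an additive subgroup with zero products.  Three quadratic
subgroups normalising each other contain every square-zero sum of their logarithms.
-/

set_option autoImplicit false

namespace Cfsg.Agent.Lib.TwoSubnormal.Quad

variable {Γ : Type*} [Group Γ] {S : Type*} [Ring S] (ι : Γ →* S)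

/-- All products of `ι a - 1` vanish. -/
def Quad (A : Subgroup Γ) : Prop := ∀ a ∈ A, ∀ b ∈ A, (ι a - 1) * (ι b - 1) = 0

variable {ι} {A : Subgroup Γ}

theorem Quad.add (hA : Quad ι A) {a b : Γ} (ha : a ∈ A) (hb : b ∈ A) :
    ι (a * b) - 1 = (ι a - 1) + (ι b - 1) := by
  have h := hA a ha b hb
  rw [map_mul, show ι a * ι b = (ι a - 1) * (ι b - 1) + (ι a - 1) + (ι b - 1) + 1 by noncomm_ring, h]
  abel

theorem Quad.neg (hA : Quad ι A) {a : Γ} (ha : a ∈ A) : ι a⁻¹ - 1 = -(ι a - 1) := by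
  have h := hA.add ha (inv_mem ha)
  rw [mul_inv_cancel, map_one, sub_self] at h
  exact eq_neg_of_add_eq_zero_right h.symm

theorem Quad.pow (hA : Quad ι A) {a : Γ} (ha : a ∈ A) (n : ℕ) :
    ι (a ^ n) - 1 = (n : S) * (ι a - 1) := by
  induction n with
  | zero => simp
  | succ n ih => rw [pow_succ, hA.add (pow_mem ha n) ha, ih, Nat.cast_succ, add_mul, one_mul]

/-- The logarithm of a quadratic subgroup. -/
def logA (ι : Γ →* S) {A : Subgroup Γ} (hA : Quad ι A) : AddSubgroup S where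
  carrier := {X | ∃ a ∈ A, ι a - 1 = X}
  zero_mem' := ⟨1, one_mem A, by simp⟩
  add_mem' := by
    rintro _ _ ⟨a, ha, rfl⟩ ⟨b, hb, rfl⟩
    exact ⟨a * b, mul_mem ha hb, hA.add ha hb⟩
  neg_mem' := by
    rintro _ ⟨a, ha, rfl⟩
    exact ⟨a⁻¹, inv_mem ha, hA.neg ha⟩

theorem mem_logA {hA : Quad ι A} {X : S} : X ∈ logA ι hA ↔ ∃ a ∈ A, ι a - 1 = X := Iff.rfl

theorem logA_mul (hA : Quad ι A) {X Y : S} (hX : X ∈ logA ι hA) (hY : Y ∈ logA ι hA) :
    X * Y = 0 := by
  obtain ⟨a, ha, rfl⟩ := hX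
  obtain ⟨b, hb, rfl⟩ := hY
  exact hA a ha b hb

theorem card_logA (hι : Function.Injective ι) (hA : Quad ι A) :
    Nat.card (logA ι hA) = Nat.card A := by
  refine (Nat.card_congr (Equiv.ofBijective (fun a : A => (⟨ι a - 1, a, a.2, rfl⟩ : logA ι hA))
    ⟨fun a b h => ?_, ?_⟩)).symm
  · exact Subtype.ext (hι (sub_left_injective (congrArg Subtype.val h)))
  · rintro ⟨_, a, ha, rfl⟩
    exact ⟨⟨a, ha⟩, rfl⟩

/-- Half of an element. -/
theorem two_cancel {h : ℕ} (h2 : (2 * h : S) = 1) {X : S} (hX : X + X = 0) : X = 0 := by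
  calc X = (2 * h : S) * X := by rw [h2, one_mul]
    _ = (h : S) * (X + X) := by rw [(Nat.cast_commute h (2 : S)).eq.symm, mul_assoc, two_mul]
    _ = 0 := by rw [hX, mul_zero]

theorem half_mem {h : ℕ} {D : AddSubgroup S} {X : S} (hX : X ∈ D) : (h : S) * X ∈ D := by
  rw [← nsmul_eq_mul]
  exact nsmul_mem hX h

variable {B : Subgroup Γ} {h : ℕ}

/-- Two quadratic subgroups normalising each other. -/
theorem pair (h2 : (2 * h : S) = 1) (hA : Quad ι A) (hB : Quad ι B)
    (hAB : A ≤ Subgroup.normalizer (B : Set Γ)) (hBA : B ≤ Subgroup.normalizer (A : Set Γ))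
    {X Y : S} (hX : X ∈ logA ι hA) (hY : Y ∈ logA ι hB) :
    X * Y * X = 0 ∧ X * Y - Y * X ∈ logA ι hA ∧ X * Y - Y * X ∈ logA ι hB := by
  -- the commutator, seen from both sides
  have key : ∀ {X Y : S}, X ∈ logA ι hA → Y ∈ logA ι hB →
      X * Y - Y * X - X * Y * X ∈ logA ι hA ∧ X * Y - Y * X - X * Y * X ∈ logA ι hB ∧
        -(X * Y * X) = Y * X * Y := by
    intro X Y hX hY
    obtain ⟨a, ha, rfl⟩ := hX
    obtain ⟨b, hb, rfl⟩ := hY
    have hc1 : a * b * a⁻¹ ∈ B := (Subgroup.mem_normalizer_iff.mp (hAB ha) b).mp hb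
    have hc2 : b * a⁻¹ * b⁻¹ ∈ A :=
      (Subgroup.mem_normalizer_iff.mp (hBA hb) a⁻¹).mp (inv_mem ha)
    set X := ι a - 1 with hXd
    set Y := ι b - 1 with hYd
    have hia : ι a = 1 + X := by rw [hXd]; abel
    have hib : ι b = 1 + Y := by rw [hYd]; abel
    have hia' : ι a⁻¹ = 1 - X := by
      rw [show ι a⁻¹ = (ι a⁻¹ - 1) + 1 by abel, hA.neg ha, ← hXd]; abel
    have hib' : ι b⁻¹ = 1 - Y := by
      rw [show ι b⁻¹ = (ι b⁻¹ - 1) + 1 by abel, hB.neg hb, ← hYd]; abel
    have hXX : X * X = 0 := hA a ha a ha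
    have hYY : Y * Y = 0 := hB b hb b hb
    have e1 : ι (a * b * a⁻¹) - 1 = Y + (X * Y - Y * X - X * Y * X) := by
      rw [map_mul, map_mul, hia, hib, hia']
      calc (1 + X) * (1 + Y) * (1 - X) - 1
          = Y + (X * Y - Y * X - X * Y * X) - X * X := by noncomm_ring
        _ = _ := by rw [hXX, sub_zero]
    have e2 : ι (b * a⁻¹ * b⁻¹) - 1 = -X + (X * Y - Y * X + Y * X * Y) := by
      rw [map_mul, map_mul, hib, hia', hib']
      calc (1 + Y) * (1 - X) * (1 - Y) - 1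
          = -X + (X * Y - Y * X + Y * X * Y) - Y * Y := by noncomm_ring
        _ = _ := by rw [hYY, sub_zero]
    set c := a * b * a⁻¹ * b⁻¹ with hc
    have hcB : c ∈ B := mul_mem hc1 (inv_mem hb)
    have hcA : c ∈ A := by
      rw [hc, show a * b * a⁻¹ * b⁻¹ = a * (b * a⁻¹ * b⁻¹) by group]
      exact mul_mem ha hc2
    have f1 : ι c - 1 = X * Y - Y * X - X * Y * X := by
      rw [hc, hB.add hc1 (inv_mem hb), hB.neg hb, e1, ← hYd]
      abel
    have f2 : ι c - 1 = X * Y - Y * X + Y * X * Y := by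
      rw [hc, show a * b * a⁻¹ * b⁻¹ = a * (b * a⁻¹ * b⁻¹) by group, hA.add ha hc2, e2, ← hXd]
      abel
    refine ⟨⟨c, hcA, f1⟩, ⟨c, hcB, f1⟩, ?_⟩
    have := f1.symm.trans f2
    rw [sub_eq_add_neg] at this
    exact add_left_cancel this
  obtain ⟨k1, k2, k3⟩ := key hX hY
  obtain ⟨-, -, k3'⟩ := key (neg_mem hX) hY
  have e : X * Y * X = 0 := by
    refine two_cancel h2 ?_
    have k4 : -(X * Y * X) = -(Y * X * Y) := by simpa [neg_mul, mul_neg] using k3'
    rw [k3] at k4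
    calc X * Y * X + X * Y * X = -(-(X * Y * X)) + -(-(X * Y * X)) := by rw [neg_neg]
      _ = -(Y * X * Y) + -(-(Y * X * Y)) := by rw [k3]; nth_rw 2 [k4]
      _ = 0 := by abel
  rw [e, sub_zero] at k1 k2
  exact ⟨e, k1, k2⟩

/-- A square-zero sum of three logarithms is a logarithm. -/
theorem exists_of_sq {C : Subgroup Γ} (h2 : (2 * h : S) = 1) (hA : Quad ι A) (hB : Quad ι B)
    (hC : Quad ι C)
    (hAB : A ≤ Subgroup.normalizer (B : Set Γ)) (hBA : B ≤ Subgroup.normalizer (A : Set Γ))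
    (hAC : A ≤ Subgroup.normalizer (C : Set Γ)) (hCA : C ≤ Subgroup.normalizer (A : Set Γ))
    (hBC : B ≤ Subgroup.normalizer (C : Set Γ)) (hCB : C ≤ Subgroup.normalizer (B : Set Γ))
    {X Y Z : S} (hX : X ∈ logA ι hA) (hY : Y ∈ logA ι hB) (hZ : Z ∈ logA ι hC)
    (hsq : (X + Y + Z) * (X + Y + Z) = 0) : ∃ g : Γ, ι g - 1 = X + Y + Z := by
  obtain ⟨pXYX, pab, pab'⟩ := pair h2 hA hB hAB hBA hX hY
  obtain ⟨pXZX, pac, pac'⟩ := pair h2 hA hC hAC hCA hX hZ
  obtain ⟨pYZY, pbc, pbc'⟩ := pair h2 hB hC hBC hCB hY hZ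
  obtain ⟨pYXY, -, -⟩ := pair h2 hB hA hBA hAB hY hX
  obtain ⟨pZXZ, -, -⟩ := pair h2 hC hA hCA hAC hZ hX
  obtain ⟨pZYZ, -, -⟩ := pair h2 hC hB hCB hBC hZ hY
  have hXX := logA_mul hA hX hX
  have hYY := logA_mul hB hY hY
  have hZZ := logA_mul hC hZ hZ
  set U := (h : S) * (X * Y - Y * X)
  set V := (h : S) * (X * Z - Z * X)
  set W := (h : S) * (Y * Z - Z * Y)
  set Q := X + Y + Z
  set H := X * Y + X * Z + Y * Z
  have hsum : (X * Y + X * Z + Y * Z) + (Y * X + Z * X + Z * Y) = 0 := by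
    rw [← hsq]
    calc (X * Y + X * Z + Y * Z) + (Y * X + Z * X + Z * Y)
        = (X * Y + X * Z + Y * Z) + (Y * X + Z * X + Z * Y) + (X * X + Y * Y + Z * Z) := by
          rw [hXX, hYY, hZZ]; abel
      _ = Q * Q := by simp only [Q]; noncomm_ring
  have hH : U + V + W = H := by
    have e : (X * Y - Y * X) + (X * Z - Z * X) + (Y * Z - Z * Y) = 2 * H := by
      have : Y * X + Z * X + Z * Y = -(X * Y + X * Z + Y * Z) := eq_neg_of_add_eq_zero_right hsum
      calc _ = (X * Y + X * Z + Y * Z) - (Y * X + Z * X + Z * Y) := by abel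
        _ = 2 * H := by rw [this, two_mul, sub_neg_eq_add]
    simp only [U, V, W, ← mul_add, e]
    rw [← mul_assoc, (Nat.cast_commute h (2 : S)).eq, h2, one_mul]
  -- products of the three commutators vanish
  have hUV : U * V = 0 := logA_mul hA (half_mem pab) (half_mem pac)
  have hUW : U * W = 0 := logA_mul hB (half_mem pab') (half_mem pbc)
  have hVW : V * W = 0 := logA_mul hC (half_mem pac') (half_mem pbc')
  have hUU : U * U = 0 := logA_mul hA (half_mem pab) (half_mem pab)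
  have hVV : V * V = 0 := logA_mul hA (half_mem pac) (half_mem pac)
  have hWW : W * W = 0 := logA_mul hB (half_mem pbc) (half_mem pbc)
  -- the six products of three
  have q1 : X * Y * Z + X * Z * Y = 0 := by
    calc X * Y * Z + X * Z * Y
        = X * (Q * Q) - X * X * (X + Y + Z) - X * Y * X - X * (Y * Y) - X * Z * X - X * (Z * Z) := by
          simp only [Q]; noncomm_ring
      _ = 0 := by rw [hsq, hXX, hYY, hZZ, pXYX, pXZX]; simp
  have q2 : Y * X * Z + Y * Z * X = 0 := by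
    calc Y * X * Z + Y * Z * X
        = Y * (Q * Q) - Y * Y * (X + Y + Z) - Y * X * Y - Y * (X * X) - Y * Z * Y - Y * (Z * Z) := by
          simp only [Q]; noncomm_ring
      _ = 0 := by rw [hsq, hXX, hYY, hZZ, pYXY, pYZY]; simp
  have q4 : Y * Z * X + Z * Y * X = 0 := by
    calc Y * Z * X + Z * Y * X
        = (Q * Q) * X - (X + Y + Z) * (X * X) - X * Y * X - Y * Y * X - X * Z * X - Z * Z * X := by
          simp only [Q]; noncomm_ring
      _ = 0 := by rw [hsq, hXX, hYY, hZZ, pXYX, pXZX]; simp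
  have q3 : Z * X * Y + Z * Y * X = 0 := by
    calc Z * X * Y + Z * Y * X
        = Z * (Q * Q) - Z * Z * (X + Y + Z) - Z * X * Z - Z * (X * X) - Z * Y * Z - Z * (Y * Y) := by
          simp only [Q]; noncomm_ring
      _ = 0 := by rw [hsq, hXX, hYY, hZZ, pZXZ, pZYZ]; simp
  have hE : Y * X * Z + Z * X * Y = 0 := by
    have : Y * X * Z + Z * X * Y =
        (Y * X * Z + Y * Z * X) + (Z * X * Y + Z * Y * X) - (Y * Z * X + Z * Y * X) := by abel
    rw [this, q2, q3, q4]
    simp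
  have hQH : Q * H = X * Y * Z := by
    calc Q * H = X * Y * Z + (Y * X * Z + Z * X * Y) + X * X * (Y + Z) + Y * X * Y + Y * Y * Z +
          Z * X * Z + Z * Y * Z := by simp only [Q, H]; noncomm_ring
      _ = _ := by rw [hE, hXX, hYY, pYXY, pZXZ, pZYZ]; simp
  have haH : X * Y * Z * H = 0 := by
    have e1 : Z * X * Y = X * Y * Z := by
      have : Z * X * Y - X * Y * Z =
          (Z * X * Y + Z * Y * X) - (Y * Z * X + Z * Y * X) + (Y * X * Z + Y * Z * X)
            - (Y * X * Z + Z * X * Y) + (Z * X * Y - X * Y * Z) := by abel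
      have q5 : X * Z * Y + Z * X * Y = 0 := by
        calc X * Z * Y + Z * X * Y
            = (Q * Q) * Y - (X + Y + Z) * (Y * Y) - X * X * Y - Y * X * Y - Y * Z * Y - Z * Z * Y := by
              simp only [Q]; noncomm_ring
          _ = 0 := by rw [hsq, hXX, hYY, hZZ, pYXY, pYZY]; simp
      calc Z * X * Y = (X * Z * Y + Z * X * Y) - (X * Y * Z + X * Z * Y) + X * Y * Z := by abel
        _ = X * Y * Z := by rw [q5, q1]; abel
    calc X * Y * Z * H = X * Y * (Z * X * Y) + X * Y * (Z * X * Z) + X * Y * (Z * Y * Z) := by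
          simp only [H]; noncomm_ring
      _ = X * Y * X * (Y * Z) := by rw [e1, pZXZ, pZYZ]; noncomm_ring
      _ = 0 := by rw [pXYX, zero_mul]
  have hHH : H * H = 0 := by
    have e : (1 - U) * (1 - V) * (1 - W) = 1 - H := by
      rw [← hH]
      calc (1 - U) * (1 - V) * (1 - W)
          = 1 - (U + V + W) + U * V + U * W + V * W - U * V * W := by noncomm_ring
        _ = _ := by rw [hUV, hUW, hVW]; simp
    have hc1 := pair h2 hA hB hAB hBA (half_mem (h := h) pac) (half_mem (h := h) pbc)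
    have hVU : V * U = 0 := logA_mul hA (half_mem pac) (half_mem pab)
    have hWU : W * U = 0 := logA_mul hB (half_mem pbc) (half_mem pab')
    have hWV : W * V = 0 := logA_mul hC (half_mem pbc') (half_mem pac')
    rw [← hH]
    calc (U + V + W) * (U + V + W) = U * U + U * V + U * W + V * U + V * V + V * W + W * U + W * V
        + W * W := by noncomm_ring
      _ = 0 := by rw [hUU, hUV, hUW, hVU, hVV, hVW, hWU, hWV, hWW]; simp
  obtain ⟨a, -, ha⟩ := hX
  obtain ⟨b, -, hb⟩ := hY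
  obtain ⟨c, -, hc⟩ := hZ
  obtain ⟨u, -, hu⟩ := neg_mem (half_mem (h := h) pab)
  obtain ⟨v, -, hv⟩ := neg_mem (half_mem (h := h) pac)
  obtain ⟨w, -, hw⟩ := neg_mem (half_mem (h := h) pbc)
  refine ⟨a * b * c * (u * v * w), ?_⟩
  rw [map_mul, map_mul, map_mul, map_mul, map_mul, show ι a = 1 + X by rw [← ha]; abel,
    show ι b = 1 + Y by rw [← hb]; abel, show ι c = 1 + Z by rw [← hc]; abel,
    show ι u = 1 - U by rw [sub_eq_add_neg, ← hu]; abel,
    show ι v = 1 - V by rw [sub_eq_add_neg, ← hv]; abel,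
    show ι w = 1 - W by rw [sub_eq_add_neg, ← hw]; abel]
  calc (1 + X) * (1 + Y) * (1 + Z) * ((1 - U) * (1 - V) * (1 - W)) - 1
      = (1 + Q + H + X * Y * Z) * (1 - (U + V + W) + U * V + U * W + V * W - U * V * W) - 1 := by
        simp only [Q, H]; noncomm_ring
    _ = (1 + Q + H + X * Y * Z) * (1 - H) - 1 := by rw [hUV, hUW, hVW, hH]; simp
    _ = Q + (X * Y * Z - Q * H) - H * H - X * Y * Z * H := by noncomm_ring
    _ = Q := by rw [hQH, hHH, haH]; abel

end Cfsg.Agent.Lib.TwoSubnormal.Quad
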