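import Cfsg.Agent.Lib.TwoSubnormal.Moving
import Cfsg.Agent.Lib.TwoSubnormal.Quad
import Cfsg.Agent.Lib.TwoSubnormal.Flag

/-!
# Moving a quadratic subgroup to the limit of its conjugates
-/

set_option autoImplicit false

namespace Cfsg.Agent.Lib.TwoSubnormal.Step

open Quad Flag
open Moving (up down ann)

variable {Γ : Type*} [Group Γ] {S : Type*} [Ring S] {ι : Γ →* S}

/-- The conjugate subgroup. -/
def conjS (b : Γ) (A : Subgroup Γ) : Subgroup Γ := A.map (MulAut.conj b).toMonoidHom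

theorem mem_conjS {b : Γ} {A : Subgroup Γ} {x : Γ} :
    x ∈ conjS b A ↔ ∃ a ∈ A, b * a * b⁻¹ = x := Iff.rfl

theorem conjS_mul (b c : Γ) (A : Subgroup Γ) : conjS b (conjS c A) = conjS (b * c) A := by
  rw [conjS, conjS, conjS, Subgroup.map_map]
  congr 1
  ext a
  simp [mul_assoc]

theorem cj_sub_one (b a : Γ) : cj ι b (ι a - 1) = ι (b * a * b⁻¹) - 1 := by
  rw [cj_apply, mul_sub, sub_mul, mul_one, ← map_mul, ← map_mul, ← map_mul, mul_inv_cancel,
    map_one]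

theorem quad_conjS {A : Subgroup Γ} (hA : Quad.Quad ι A) (b : Γ) : Quad.Quad ι (conjS b A) := by
  rintro _ ⟨a, ha, rfl⟩ _ ⟨c, hc, rfl⟩
  show (ι (b * a * b⁻¹) - 1) * (ι (b * c * b⁻¹) - 1) = 0
  rw [← cj_sub_one, ← cj_sub_one, cj_apply, cj_apply]
  calc ι b * (ι a - 1) * ι b⁻¹ * (ι b * (ι c - 1) * ι b⁻¹)
      = ι b * (ι a - 1) * (ι b⁻¹ * ι b) * (ι c - 1) * ι b⁻¹ := by simp only [mul_assoc]
    _ = ι b * ((ι a - 1) * (ι c - 1)) * ι b⁻¹ := by
        rw [← map_mul, inv_mul_cancel, map_one, mul_one]; simp only [mul_assoc]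
    _ = 0 := by rw [hA a ha c hc, mul_zero, zero_mul]

/-- The potential of a subgroup. -/
noncomputable def potential (ι : Γ →* S) (K : ℕ) {A : Subgroup Γ} (hA : Quad.Quad ι A) : ℕ :=
  ∑ k ∈ Finset.range K, Nat.card ↥(logA ι hA ⊓ flag ι k)

variable [Finite S] {h : ℕ} {K : ℕ}

/-- The improvement step. -/
theorem exists_better (hι : Function.Injective ι) (h2 : (2 * h : S) = 1) (hK : flag ι K = ⊤)
    {A : Subgroup Γ} (hA : Quad.Quad ι A) {b : Γ} (hb : (ι b - 1) * (ι b - 1) = 0)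
    (R : Subgroup Γ) (hAR : A ≤ R) (hbR : b ∈ Subgroup.normalizer (R : Set Γ))
    (hRA : R ≤ Subgroup.normalizer (A : Set Γ)) (hbA : ∃ a ∈ A, b * a * b⁻¹ ∉ A) :
    ∃ (A' : Subgroup Γ) (hA' : Quad.Quad ι A'), Nat.card A ≤ Nat.card A' ∧
      Nat.card (ann (logA ι hA)) ≤ Nat.card (ann (logA ι hA')) ∧
      potential ι K hA < potential ι K hA' := by
  classical
  set N := ι b - 1 with hN
  have hib : ι b = 1 + N := by rw [hN]; abel
  have hib' : ι b⁻¹ = 1 - N := by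
    have h1 : ι b⁻¹ * (1 + N) = 1 := by rw [← hib, ← map_mul, inv_mul_cancel, map_one]
    have h3 : (1 + N) * (1 - N) = 1 := by
      calc (1 + N) * (1 - N) = 1 - N * N := by noncomm_ring
        _ = 1 := by rw [hb, sub_zero]
    calc ι b⁻¹ = ι b⁻¹ * ((1 + N) * (1 - N)) := by rw [h3, mul_one]
      _ = _ := by rw [← mul_assoc, h1, one_mul]
  -- the three conjugates
  have hnormR : ∀ c, c ∈ Subgroup.normalizer (R : Set Γ) →
      conjS c A ≤ R ∧ R ≤ Subgroup.normalizer (conjS c A : Set Γ) := by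
    intro c hc
    refine ⟨?_, ?_⟩
    · rintro _ ⟨a, ha, rfl⟩
      exact (Subgroup.mem_normalizer_iff.mp hc a).mp (hAR ha)
    · intro r hr
      have hr' : c⁻¹ * r * c ∈ R := (Subgroup.mem_normalizer_iff''.mp hc r).mp hr
      have hn := Subgroup.mem_normalizer_iff.mp (hRA hr')
      rw [Subgroup.mem_normalizer_iff]
      intro y
      simp only [mem_conjS]
      constructor
      · rintro ⟨a, ha, rfl⟩
        exact ⟨c⁻¹ * r * c * a * (c⁻¹ * r * c)⁻¹, (hn a).mp ha, by group⟩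
      · rintro ⟨a, ha, e⟩
        refine ⟨c⁻¹ * y * c, (hn _).mpr ?_, by group⟩
        have : c⁻¹ * r * c * (c⁻¹ * y * c) * (c⁻¹ * r * c)⁻¹ = a := by
          calc _ = c⁻¹ * (r * y * r⁻¹) * c := by group
            _ = a := by rw [← e]; group
        rwa [this]
  obtain ⟨h1R, h1N⟩ := hnormR b hbR
  obtain ⟨h2R, h2N⟩ := hnormR b⁻¹ (inv_mem hbR)
  have hA1 := quad_conjS hA b
  have hA2 := quad_conjS hA b⁻¹
  set D := logA ι hA ⊔ logA ι hA1 ⊔ logA ι hA2 with hD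
  have hcj : ∀ x : S, cj ι b x = x + (N * x - x * N) - N * x * N := by
    intro x; rw [cj_apply, hib, hib']; noncomm_ring
  have hcj' : ∀ x : S, cj ι b⁻¹ x = x - (N * x - x * N) - N * x * N := by
    intro x; rw [cj_apply, inv_inv, hib, hib']; noncomm_ring
  have hY : ∀ x : S, N * x - x * N = (h : S) * (cj ι b x - cj ι b⁻¹ x) := fun x => by
    rw [hcj, hcj', show x + (N * x - x * N) - N * x * N - (x - (N * x - x * N) - N * x * N) =
      2 * (N * x - x * N) by rw [two_mul]; abel, ← mul_assoc,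
      (Nat.cast_commute h (2 : S)).eq, h2, one_mul]
  have hZ : ∀ x : S, N * x * N = x - (h : S) * (cj ι b x + cj ι b⁻¹ x) := fun x => by
    rw [hcj, hcj', show x + (N * x - x * N) - N * x * N + (x - (N * x - x * N) - N * x * N) =
      2 * (x - N * x * N) by rw [two_mul]; abel, ← mul_assoc,
      (Nat.cast_commute h (2 : S)).eq, h2, one_mul, sub_sub_cancel]
  set L := Leading.lead (up N) (down N) (logA ι hA) with hLdef
  -- members of `D`
  have hcj1 : ∀ x ∈ logA ι hA, cj ι b x ∈ logA ι hA1 := by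
    rintro _ ⟨a, ha, rfl⟩
    exact ⟨_, ⟨a, ha, rfl⟩, (cj_sub_one b a).symm⟩
  have hcj2 : ∀ x ∈ logA ι hA, cj ι b⁻¹ x ∈ logA ι hA2 := by
    rintro _ ⟨a, ha, rfl⟩
    exact ⟨_, ⟨a, ha, rfl⟩, (cj_sub_one b⁻¹ a).symm⟩
  have hm0 : ∀ x ∈ logA ι hA, x ∈ D := fun x hx =>
    le_sup_left (b := logA ι hA2) (le_sup_left (b := logA ι hA1) hx)
  have hm1 : ∀ x ∈ logA ι hA, cj ι b x ∈ D := fun x hx =>
    le_sup_left (b := logA ι hA2) (le_sup_right (a := logA ι hA) (hcj1 x hx))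
  have hm2 : ∀ x ∈ logA ι hA, cj ι b⁻¹ x ∈ D := fun x hx =>
    le_sup_right (a := logA ι hA ⊔ logA ι hA1) (hcj2 x hx)
  have hLD : L ≤ D := by
    refine Moving.lead_le hm0 (fun x hx => ?_) (fun x hx => ?_)
    · rw [hY]; exact half_mem (sub_mem (hm1 x hx) (hm2 x hx))
    · rw [hZ]; exact sub_mem (hm0 x hx) (half_mem (add_mem (hm1 x hx) (hm2 x hx)))
  have hLL : ∀ c ∈ L, ∀ c' ∈ L, c * c' = 0 := fun c hc c' hc' =>
    Moving.lead_mul hb (fun x hx y hy => logA_mul hA hx hy) hc hc'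
  have hmem : ∀ c ∈ L, ∃ g : Γ, ι g - 1 = c := by
    intro c hc
    obtain ⟨y, hy, z, hz, rfl⟩ := AddSubgroup.mem_sup.mp (hLD hc)
    obtain ⟨x, hx, w, hw, rfl⟩ := AddSubgroup.mem_sup.mp hy
    exact exists_of_sq h2 hA hA1 hA2 (hAR.trans h1N) (h1R.trans hRA) (hAR.trans h2N)
      (h2R.trans hRA) (h1R.trans h2N) (h2R.trans h1N) hx hw hz (hLL _ hc _ hc)
  let A' : Subgroup Γ :=
    { carrier := {g | ι g - 1 ∈ L}
      one_mem' := by simp
      mul_mem' := fun {g g'} hg hg' => by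
        show ι (g * g') - 1 ∈ L
        rw [map_mul, show ι g * ι g' - 1 = (ι g - 1) * (ι g' - 1) + (ι g - 1) + (ι g' - 1) by
          noncomm_ring, hLL _ hg _ hg', zero_add]
        exact add_mem hg hg'
      inv_mem' := fun {g} hg => by
        show ι g⁻¹ - 1 ∈ L
        have e : ι g⁻¹ - 1 = -(ι g - 1) := by
          have h1 : ι g⁻¹ * ι g = 1 := by rw [← map_mul, inv_mul_cancel, map_one]
          have h3 : (ι g - 1) * (ι g - 1) = 0 := hLL _ hg _ hg
          have h4 : ι g * (2 - ι g) = 1 := by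
            calc ι g * (2 - ι g) = 1 - (ι g - 1) * (ι g - 1) := by noncomm_ring
              _ = 1 := by rw [h3, sub_zero]
          have h5 : ι g⁻¹ = 2 - ι g := by
            calc ι g⁻¹ = ι g⁻¹ * (ι g * (2 - ι g)) := by rw [h4, mul_one]
              _ = _ := by rw [← mul_assoc, h1, one_mul]
          rw [h5, neg_sub, ← one_add_one_eq_two]
          abel
        rw [e]
        exact neg_mem hg }
  have hA' : Quad.Quad ι A' := fun a ha c hc => hLL _ ha _ hc
  have hlog : logA ι hA' = L := by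
    ext c
    refine ⟨?_, fun hc => ?_⟩
    · rintro ⟨a, ha, rfl⟩; exact ha
    · obtain ⟨g, rfl⟩ := hmem c hc
      exact ⟨g, hc, rfl⟩
  refine ⟨A', hA', ?_, ?_, ?_⟩
  · rw [← card_logA hι hA, ← card_logA hι hA', hlog]
    exact Moving.card_le_lead hb _
  · rw [hlog]
    exact Moving.card_ann_le hb _
  -- the potential grows
  have hle : ∀ k, Nat.card ↥(logA ι hA ⊓ flag ι k) ≤ Nat.card ↥(L ⊓ flag ι k) := by
    intro k
    refine (Moving.card_le_lead hb (logA ι hA ⊓ flag ι k)).trans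
      (Nat.card_mono (Set.toFinite _) ?_)
    refine le_inf (Leading.lead_mono inf_le_left) (Moving.lead_le (fun x hx => hx.2) (fun x hx => ?_)
      (fun x hx => ?_))
    · rw [hY]
      exact half_mem (sub_mem (cj_mem ι k b hx.2) (cj_mem ι k b⁻¹ hx.2))
    · rw [hZ]
      exact sub_mem hx.2 (half_mem (add_mem (cj_mem ι k b hx.2) (cj_mem ι k b⁻¹ hx.2)))
  -- the first level which moves
  have hex : ∃ k, ∃ x ∈ logA ι hA ⊓ flag ι k, cj ι b x ∉ logA ι hA := by
    obtain ⟨a, ha, hba⟩ := hbA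
    refine ⟨K, ι a - 1, ⟨⟨a, ha, rfl⟩, by rw [hK]; trivial⟩, fun hc => hba ?_⟩
    obtain ⟨c, hcA, e⟩ := hc
    rw [cj_sub_one, sub_left_inj] at e
    exact hι e ▸ hcA
  set k := Nat.find hex with hkdef
  obtain ⟨x, hx, hxb⟩ := Nat.find_spec hex
  have hk0 : k ≠ 0 := by
    intro h0
    refine hxb ?_
    have : x ∈ flag ι k := hx.2
    rw [h0] at this
    rw [show x = 0 from this, map_zero]
    exact zero_mem _
  obtain ⟨j, hj⟩ : ∃ j, k = j + 1 := ⟨k - 1, by omega⟩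
  have hjK : j < K := by
    have : k ≤ K := Nat.find_min' hex (by
      obtain ⟨a, ha, hba⟩ := hbA
      refine ⟨ι a - 1, ⟨⟨a, ha, rfl⟩, by rw [hK]; trivial⟩, fun hc => hba ?_⟩
      obtain ⟨c, hcA, e⟩ := hc
      rw [cj_sub_one, sub_left_inj] at e
      exact hι e ▸ hcA)
    omega
  have hxk : x ∈ flag ι (j + 1) := hj ▸ hx.2
  have hstable : ∀ y ∈ logA ι hA ⊓ flag ι j,
      cj ι b y ∈ logA ι hA ∧ cj ι b⁻¹ y ∈ logA ι hA := by
    have hb1 : ∀ y ∈ logA ι hA ⊓ flag ι j, cj ι b y ∈ logA ι hA ⊓ flag ι j := fun y hy =>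
      ⟨by_contra fun hn => Nat.find_min hex (m := j) (by omega) ⟨y, hy, hn⟩, cj_mem ι j b hy.2⟩
    intro y hy
    refine ⟨(hb1 y hy).1, ?_⟩
    let f : ↥(logA ι hA ⊓ flag ι j) → ↥(logA ι hA ⊓ flag ι j) := fun z => ⟨cj ι b z, hb1 z z.2⟩
    have hf : Function.Injective f := fun z z' e => by
      have := congrArg (fun w => cj ι b⁻¹ w.1) e
      simp only [f, ← cj_mul, inv_mul_cancel, cj_one] at this
      exact Subtype.ext this
    obtain ⟨z, hz⟩ := (Finite.injective_iff_surjective.mp hf) ⟨y, hy⟩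
    have : cj ι b⁻¹ y = z := by
      rw [show y = cj ι b z from (congrArg Subtype.val hz).symm, ← cj_mul, inv_mul_cancel, cj_one]
    rw [this]
    exact z.2.1
  have hst : ∀ y ∈ logA ι hA ⊓ flag ι j,
      N * y - y * N ∈ logA ι hA ∧ N * y * N ∈ logA ι hA := fun y hy => by
    obtain ⟨h1, h1'⟩ := hstable y hy
    rw [hY, hZ]
    exact ⟨half_mem (sub_mem h1 h1'), sub_mem hy.1 (half_mem (add_mem h1 h1'))⟩
  have hsub : logA ι hA ⊓ flag ι j ≤ L ⊓ flag ι j := fun y hy =>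
    ⟨Moving.self_mem_lead hb hy.1 (hst y hy).1 (hst y hy).2, hy.2⟩
  have hnew : ∃ c ∈ L ⊓ flag ι j, c ∉ logA ι hA ⊓ flag ι j := by
    have hy1 := hxk b
    have hy2 := hxk b⁻¹
    have hYf : N * x - x * N ∈ flag ι j := by
      rw [hY]
      refine half_mem ?_
      rw [show cj ι b x - cj ι b⁻¹ x = (cj ι b x - x) - (cj ι b⁻¹ x - x) by abel]
      exact sub_mem hy1 hy2
    have hZf : N * x * N ∈ flag ι j := by
      rw [show N * x * N = (x + (N * x - x * N) - cj ι b x) by rw [hcj]; abel,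
        show x + (N * x - x * N) - cj ι b x = (N * x - x * N) - (cj ι b x - x) by abel]
      exact sub_mem hYf hy1
    by_cases hZA : N * x * N ∈ logA ι hA
    · refine ⟨N * x - x * N, ⟨Moving.mid_mem_lead hx.1 ?_, hYf⟩, fun hY' => hxb ?_⟩
      · obtain ⟨h1, h2'⟩ := hst _ ⟨hZA, hZf⟩
        exact Moving.C_mem_image hb hZA h1 h2'
      · rw [hcj]
        exact sub_mem (add_mem hx.1 hY'.1) hZA
    · exact ⟨N * x * N, ⟨Moving.sq_mem_lead hx.1, hZf⟩, fun h' => hZA h'.1⟩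
  refine Finset.sum_lt_sum (fun i _ => ?_) ⟨j, Finset.mem_range.mpr hjK, ?_⟩
  · rw [hlog]; exact hle i
  · obtain ⟨c, hc, hcn⟩ := hnew
    rw [hlog]
    refine Set.ncard_lt_ncard (ssubset_of_subset_of_ne (fun y hy => hsub hy) fun e => hcn ?_)
      (Set.toFinite _)
    exact (Set.ext_iff.mp e c).mpr hc

end Cfsg.Agent.Lib.TwoSubnormal.Step
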